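import Cfsg.Agent.Lib.Helper28.Descent.Main

/-! The `q`-power map of a field with `q ^ 2` elements as an involutive automorphism; descent in that form. -/

set_option autoImplicit false
set_option linter.unusedSectionVars false

namespace Cfsg.Agent.Lib.Helper28.Descent

open Cfsg Cfsg.Geo
open scoped MatrixGroups Matrix

variable {ι : Type} [Fintype ι] [DecidableEq ι] {F : Type*} [Field F]

theorem exists_powq_equiv [Fintype F] (q : ℕ) (hF : Fintype.card F = q ^ 2) :
    ∃ σ : F ≃+* F, (∀ a, σ a = a ^ q) ∧ (∀ a, σ (σ a) = a) ∧ σ ≠ RingEquiv.refl F := by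
  classical
  obtain ⟨p, hp⟩ := CharP.exists F
  obtain ⟨n, hpp, hn⟩ := FiniteField.card F p
  haveI : Fact p.Prime := ⟨hpp⟩
  have hq : q ∣ p ^ (n : ℕ) := by
    rw [← hn, hF]
    exact Dvd.intro_left (q ^ 1) (by ring)
  obtain ⟨k, -, hk⟩ := (Nat.dvd_prime_pow hpp).1 hq
  have h1 : ∀ a : F, (iterateFrobeniusEquiv F p k) a = a ^ q := by
    intro a
    rw [iterateFrobeniusEquiv_def, hk]
  refine ⟨iterateFrobeniusEquiv F p k, h1, ?_, ?_⟩
  · intro a
    rw [h1, h1, ← pow_mul, ← pow_two, ← hF, FiniteField.pow_card]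
  · intro h
    have h2 : ∀ a : F, a ^ q = a := by
      intro a
      rw [← h1, h]
      rfl
    have hq1 : 1 < q := by
      have : 1 < Fintype.card F := Fintype.one_lt_card
      rw [hF] at this
      by_contra hle
      push Not at hle
      interval_cases q <;> simp at this
    -- `X ^ q - X` has at most `q` roots
    have hne : (Polynomial.X ^ q - Polynomial.X : Polynomial F) ≠ 0 :=
      FiniteField.X_pow_card_sub_X_ne_zero F hq1
    have hcard : Fintype.card F ≤ q := by
      have h3 : (Finset.univ : Finset F) ⊆ (Polynomial.X ^ q - Polynomial.X : Polynomial F).roots.toFinset := by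
        intro a _
        rw [Multiset.mem_toFinset, Polynomial.mem_roots hne]
        simp [h2 a]
      calc Fintype.card F = (Finset.univ : Finset F).card := rfl
        _ ≤ _ := Finset.card_le_card h3
        _ ≤ Multiset.card (Polynomial.X ^ q - Polynomial.X : Polynomial F).roots := Multiset.toFinset_card_le _
        _ ≤ (Polynomial.X ^ q - Polynomial.X : Polynomial F).natDegree := Polynomial.card_roots' _
        _ = q := FiniteField.X_pow_card_sub_X_natDegree_eq F hq1
    rw [hF] at hcard
    nlinarith

/-- descent for the `q`-power twist. -/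
theorem realisable_of_powq [Fintype F] [Nonempty ι] (q : ℕ) (hF : Fintype.card F = q ^ 2)
    (P : Subgroup (GL ι F)) (hP : ActsAbsolutelyIrreducibly (matrixSet P)) (M : Matrix ι ι F) (hM : M.det ≠ 0)
    (h : ∀ s ∈ matrixSet P, s.map (· ^ q) * M = M * s) :
    ∃ F₀ : Subfield F, F₀ ≠ ⊤ ∧ RealisableOver F₀ (matrixSet P) := by
  obtain ⟨σ, h1, h2, h3⟩ := exists_powq_equiv (F := F) q hF
  refine realisable_of_semilinear σ h2 h3 P hP M hM ?_
  intro s hs
  have : s.map σ = s.map (· ^ q) := by
    ext i j
    simp [h1]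
  rw [this]
  exact h s hs

end Cfsg.Agent.Lib.Helper28.Descent
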